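import Cfsg.Agent.A22.LemX
import Cfsg.Agent.A22.Pair24
import Cfsg.Agent.FiF4.Core

/-!
Automorphisms of a group of type M(22) fixing a product of two commuting members (owner: helper50).
-/

set_option autoImplicit false
set_option linter.unusedSectionVars false

namespace Cfsg.Agent.A22

open Matrix Module Cfsg.Agent.Uni Cfsg.Agent.ThreeTransp Cfsg.Agent.Fi22 Cfsg.Agent.FiF4 Cfsg.Agent.FiF6

/-- a group acting faithfully on a normal section with enough elements -/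
theorem equiv_mulAut_le {Γ : Type*} [Group Γ] [Finite Γ] (K E : Subgroup Γ) [K.Normal] [E.Normal]
    {X : Type*} [Group X] [Finite X] (φ : K →* X) (hφ : Function.Surjective φ)
    (hker : ∀ k : K, φ k = 1 ↔ (k : Γ) ∈ E)
    (hcard : Nat.card (MulAut X) ≤ Nat.card (Γ ⧸ E))
    (hfaith : ∀ c : Γ, (∀ k ∈ K, c * k * c⁻¹ * k⁻¹ ∈ E) → c ∈ E) :
    Nonempty (Γ ⧸ E ≃* MulAut X) ∧ Nat.card (Γ ⧸ E) = Nat.card (MulAut X) := by
  classical
  let Kb : Subgroup (Γ ⧸ E) := K.map (QuotientGroup.mk' E)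
  haveI : Kb.Normal := Subgroup.Normal.map inferInstance _ (QuotientGroup.mk'_surjective E)
  let g : K →* Kb := (QuotientGroup.mk' E).subgroupMap K
  have hg : Function.Surjective g := MonoidHom.subgroupMap_surjective _ _
  have hgk : g.ker = φ.ker := by
    ext k
    rw [MonoidHom.mem_ker, MonoidHom.mem_ker, hker]
    constructor
    · intro h
      have := congrArg Subtype.val h
      exact (QuotientGroup.eq_one_iff _).1 this
    · intro h
      exact Subtype.ext ((QuotientGroup.eq_one_iff _).2 h)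
  have e : Kb ≃* X := (QuotientGroup.quotientKerEquivOfSurjective g hg).symm.trans
    ((QuotientGroup.quotientMulEquivOfEq hgk).trans (QuotientGroup.quotientKerEquivOfSurjective φ hφ))
  have hinj : Function.Injective (MulAut.conjNormal : Γ ⧸ E →* MulAut Kb) := by
    rw [injective_iff_map_eq_one]
    intro c hc
    induction c using QuotientGroup.induction_on with
    | _ c =>
      rw [QuotientGroup.eq_one_iff]
      apply hfaith
      intro k hk
      have h1 := congrArg (fun f : MulAut Kb => ((f ⟨QuotientGroup.mk k, k, hk, rfl⟩ : Kb) : Γ ⧸ E)) hc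
      simp only [MulAut.conjNormal_apply, MulAut.one_apply] at h1
      rw [← QuotientGroup.eq_one_iff]
      have : ((c * k * c⁻¹ * k⁻¹ : Γ) : Γ ⧸ E) = (c : Γ ⧸ E) * (k : Γ ⧸ E) * (c : Γ ⧸ E)⁻¹ * (k : Γ ⧸ E)⁻¹ := rfl
      rw [this, h1, mul_inv_cancel]
  have hc1 : Nat.card (MulAut X) = Nat.card (MulAut Kb) := (Nat.card_congr (MulAut.congr e).toEquiv).symm
  have hcard2 : Nat.card (Γ ⧸ E) = Nat.card (MulAut Kb) := by
    apply le_antisymm
    · exact Nat.card_le_card_of_injective _ hinj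
    · rw [← hc1]; exact hcard
  have hbij : Function.Bijective (MulAut.conjNormal : Γ ⧸ E →* MulAut Kb) := by
    rw [Nat.bijective_iff_injective_and_card]
    exact ⟨hinj, hcard2⟩
  exact ⟨⟨(MulEquiv.ofBijective _ hbij).trans (MulAut.congr e)⟩, by rw [hcard2, hc1]⟩

variable {G : Type*} [Group G] [Finite G] {D : Set G}

section base

variable (H : H22 D)
include H

theorem aut_mem (α : MulAut G) {d : G} (hd : d ∈ D) : α d ∈ D := by
  have h1 : (α : G ≃* G) '' D = D := (core22 H).unique (map_class H.cls)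
  rw [← h1]
  exact ⟨d, hd, rfl⟩

theorem aut_perp (α : MulAut G) {x y : G} (h : y ∈ perp D x) : α y ∈ perp D (α x) :=
  ⟨aut_mem H α h.1, fun h' => h.2.1 (α.injective h'), h.2.2.map α.toMonoidHom⟩

omit H in
theorem aut_comm (α : MulAut G) {x y : G} : Commute (α x) (α y) ↔ Commute x y := by
  constructor
  · intro h
    have := h.map α.symm.toMonoidHom
    simpa using this
  · intro h
    exact h.map α.toMonoidHom

theorem conj_injective : Function.Injective (MulAut.conj : G →* MulAut G) := by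
  rw [injective_iff_map_eq_one]
  intro g hg
  have h1 : g ∈ Subgroup.center G := by
    rw [Subgroup.mem_center_iff]
    intro y
    have h2 := congrArg (fun f : MulAut G => f y) hg
    simp only [MulAut.conj_apply, MulAut.one_apply] at h2
    rw [mul_inv_eq_iff_eq_mul] at h2
    exact h2.symm
  rw [H.core.cen] at h1
  exact Subgroup.mem_bot.1 h1

theorem card_mulAut : Nat.card (MulAut G) = 2 * Nat.card G := by
  obtain ⟨e, -⟩ := H.exists_iso
  rw [Nat.card_congr (MulAut.congr e).toEquiv, card_mulAut_fi22, Nat.card_congr e.toEquiv]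

theorem card_inn : Nat.card (MulAut.conj : G →* MulAut G).range = Nat.card G :=
  (Nat.card_congr (MonoidHom.ofInjective (conj_injective H)).toEquiv).symm

theorem index_inn : (MulAut.conj : G →* MulAut G).range.index = 2 := by
  have h1 := (MulAut.conj : G →* MulAut G).range.card_mul_index
  rw [card_inn H, card_mulAut H, mul_comm 2] at h1
  exact Nat.eq_of_mul_eq_mul_left Nat.card_pos h1

/-- two automorphisms outside the inner ones differ by an inner one -/
theorem exists_inn {α β : MulAut G} (hα : α ∉ (MulAut.conj : G →* MulAut G).range)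
    (hβ : β ∉ (MulAut.conj : G →* MulAut G).range) : ∃ g : G, β = α * MulAut.conj g := by
  have h1 := Subgroup.mul_mem_iff_of_index_two (index_inn H) (a := α⁻¹) (b := β)
  rw [inv_mem_iff] at h1
  have h2 : α⁻¹ * β ∈ (MulAut.conj : G →* MulAut G).range := h1.2 (by simp [hα, hβ])
  obtain ⟨g, hg⟩ := h2
  exact ⟨g, by rw [hg]; group⟩

omit H in
theorem mul_conj (α : MulAut G) (g : G) : α * MulAut.conj g = MulAut.conj (α g) * α := by
  ext y
  simp only [MulAut.mul_apply, MulAut.conj_apply, map_mul, map_inv]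

end base

section M

variable {d₁ d₂ : G} {F : Type} [Field F] [Fintype F] (P : FiF6.PD D d₁ d₂ F)
include P

theorem mem_M {α : MulAut G} : α ∈ Subgroup.centralizer ({MulAut.conj (d₁ * d₂)} : Set (MulAut G)) ↔
    α (d₁ * d₂) = d₁ * d₂ := by
  rw [Subgroup.mem_centralizer_singleton_iff, mul_conj]
  constructor
  · intro h
    exact conj_injective P.h (mul_right_cancel h)
  · intro h
    rw [h]

theorem cases_M {α : MulAut G} (hα : α (d₁ * d₂) = d₁ * d₂) : (α d₁ = d₁ ∧ α d₂ = d₂) ∨ (α d₁ = d₂ ∧ α d₂ = d₁) := by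
  obtain ⟨g, h1, h2⟩ := FiF4.H22.exists_conj_pair' P.h P.hd₁ P.hd₂ (aut_mem P.h α P.hd₁) (aut_perp P.h α P.hd₂)
  have h3 : Commute g (d₁ * d₂) := by
    rw [commute_iff_conj]
    have : g * (d₁ * d₂) * g⁻¹ = (g * d₁ * g⁻¹) * (g * d₂ * g⁻¹) := by group
    rw [this, h1, h2, ← map_mul, hα]
  rw [← h1, ← h2]
  exact P.cases_C h3

theorem map_D12 {α : MulAut G} (hα : α (d₁ * d₂) = d₁ * d₂) {x : G} (hx : x ∈ perp D d₁ ∩ perp D d₂) :
    α x ∈ perp D d₁ ∩ perp D d₂ := by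
  have h1 := aut_perp P.h α hx.1
  have h2 := aut_perp P.h α hx.2
  rcases cases_M P hα with ⟨e1, e2⟩ | ⟨e1, e2⟩
  · rw [e1] at h1; rw [e2] at h2; exact ⟨h1, h2⟩
  · rw [e1] at h1; rw [e2] at h2; exact ⟨h2, h1⟩

omit P in
theorem inv_app (α : MulAut G) (x : G) : α⁻¹ (α x) = x := by
  show (α⁻¹ * α) x = x
  rw [inv_mul_cancel]; rfl

omit P in
theorem inv_M {α : MulAut G} (hα : α (d₁ * d₂) = d₁ * d₂) : α⁻¹ (d₁ * d₂) = d₁ * d₂ := by
  have h1 := congrArg (α⁻¹ : MulAut G) hα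
  rw [inv_app] at h1
  exact h1.symm

omit P in
theorem app_inv (α : MulAut G) (x : G) : α (α⁻¹ x) = x := by
  show (α * α⁻¹) x = x
  rw [mul_inv_cancel]; rfl

theorem sim_aut {α : MulAut G} (hα : α (d₁ * d₂) = d₁ * d₂) {x y : G} (h : Sim D d₁ d₂ x y) :
    Sim D d₁ d₂ (α x) (α y) := by
  intro z hz
  have h1 := h (α⁻¹ z) (map_D12 P (inv_M hα) hz)
  rw [← aut_comm α, ← aut_comm α (x := α⁻¹ z) (y := y), app_inv] at h1
  exact h1

/-- the automorphisms acting trivially on the classes -/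
def Q0 : Subgroup (MulAut G) where
  carrier := {α | α (d₁ * d₂) = d₁ * d₂ ∧ ∀ x ∈ perp D d₁ ∩ perp D d₂, Sim D d₁ d₂ x (α x)}
  one_mem' := ⟨rfl, fun x _ z _ => Iff.rfl⟩
  mul_mem' := by
    rintro α β ⟨h1, h2⟩ ⟨h3, h4⟩
    refine ⟨?_, fun x hx => ?_⟩
    · rw [MulAut.mul_apply, h3, h1]
    · rw [MulAut.mul_apply]
      exact (h4 x hx).trans (h2 _ (map_D12 P h3 hx))
  inv_mem' := by
    rintro α ⟨h1, h2⟩
    refine ⟨inv_M h1, fun x hx => ?_⟩
    have h3 := h2 _ (map_D12 P (inv_M h1) hx)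
    rw [app_inv] at h3
    exact h3.symm

theorem mem_Q0 {α : MulAut G} : α ∈ Q0 P ↔ α (d₁ * d₂) = d₁ * d₂ ∧
    ∀ x ∈ perp D d₁ ∩ perp D d₂, Sim D d₁ d₂ x (α x) := Iff.rfl

theorem Q0_le : Q0 P ≤ Subgroup.centralizer ({MulAut.conj (d₁ * d₂)} : Set (MulAut G)) :=
  fun _ h => (mem_M P).2 h.1

theorem conj_mem_Q0 {c : G} : MulAut.conj c ∈ Q0 P ↔ c ∈ P.E := by
  rw [mem_Q0]
  constructor
  · rintro ⟨h1, h2⟩
    apply P.mem_E_of_classes
    · rw [commute_iff_conj]; exact h1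
    · exact h2
  · intro hc
    refine ⟨?_, fun x hx => (P.mem_E_iff.1 hc).2 x hx⟩
    rw [MulAut.conj_apply, ← commute_iff_conj]
    exact FiF6.PD.commute_of_K (P.E_le hc)

theorem conj_Q0 {α q : MulAut G} (hα : α (d₁ * d₂) = d₁ * d₂) (hq : q ∈ Q0 P) : α * q * α⁻¹ ∈ Q0 P := by
  refine ⟨?_, fun x hx => ?_⟩
  · rw [MulAut.mul_apply, MulAut.mul_apply, inv_M hα, hq.1, hα]
  · rw [MulAut.mul_apply, MulAut.mul_apply]
    have h1 := sim_aut P hα (hq.2 _ (map_D12 P (inv_M hα) hx))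
    rw [app_inv] at h1
    exact h1

theorem map_K {α : MulAut G} (hα : α (d₁ * d₂) = d₁ * d₂) {k : G}
    (hk : k ∈ Subgroup.centralizer ({d₁, d₂} : Set G)) : α k ∈ Subgroup.centralizer ({d₁, d₂} : Set G) := by
  rw [mem_cent_pair] at hk ⊢
  have h1 := (aut_comm α).2 hk.1
  have h2 := (aut_comm α).2 hk.2
  rcases cases_M P hα with ⟨e1, e2⟩ | ⟨e1, e2⟩
  · rw [e1] at h1; rw [e2] at h2; exact ⟨h1, h2⟩
  · rw [e1] at h1; rw [e2] at h2; exact ⟨h2, h1⟩

/-- elements of `Q0` act trivially on `K/E` -/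
theorem comm_Q0 {q : MulAut G} (hq : q ∈ Q0 P) {k : G} (hk : k ∈ Subgroup.centralizer ({d₁, d₂} : Set G)) :
    q k * k⁻¹ ∈ P.E := by
  rw [← conj_mem_Q0 P]
  have h1 : MulAut.conj (q k * k⁻¹) = q * (MulAut.conj k * q⁻¹ * (MulAut.conj k)⁻¹) := by
    rw [map_mul, map_inv, ← mul_assoc, ← mul_assoc, mul_conj]
    group
  rw [h1]
  apply (Q0 P).mul_mem hq
  apply conj_Q0 P _ ((Q0 P).inv_mem hq)
  rw [MulAut.conj_apply, ← commute_iff_conj]
  exact FiF6.PD.commute_of_K hk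

theorem mem_Q0_of_comm {α : MulAut G} (hα : α (d₁ * d₂) = d₁ * d₂)
    (h : ∀ k ∈ Subgroup.centralizer ({d₁, d₂} : Set G), α k * k⁻¹ ∈ P.E) : α ∈ Q0 P := by
  refine ⟨hα, fun x hx => ?_⟩
  have hx' := map_D12 P hα hx
  have h1 := h x (P.q_mem_K hx)
  obtain ⟨a, u, hu0, hu, rfl⟩ := P.exists_q hx
  obtain ⟨β, w, hw0, hw, e⟩ := P.exists_q hx'
  rw [e] at h1 ⊢
  obtain ⟨hk, h2⟩ := P.mem_E.1 h1
  have h3 : (⟨P.q β w * (P.q a u)⁻¹, hk⟩ : ↥(Subgroup.centralizer ({d₁, d₂} : Set G))) =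
    ⟨P.q β w, P.q_mem_K (P.q_mem hw0 hw)⟩ * ⟨P.q a u, P.q_mem_K (P.q_mem hu0 hu)⟩⁻¹ := rfl
  rw [h3, map_mul, map_inv, P.φ_q hu0 hu, P.φ_q hw0 hw, mul_inv_eq_one] at h2
  rw [P.sim_q hu0 hu hw0 hw]
  exact (tv_eq_iff P.Δ.hF hu0 hu hw).1 h2.symm

end M

end Cfsg.Agent.A22
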