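import Cfsg.Agent.A22.Aut

/-!
Orders (owner: helper50).
-/

set_option autoImplicit false
set_option linter.unusedSectionVars false

namespace Cfsg.Agent.A22

open Matrix Module Cfsg.Agent.Uni Cfsg.Agent.ThreeTransp Cfsg.Agent.Fi22 Cfsg.Agent.FiF4 Cfsg.Agent.FiF6

variable {G : Type*} [Group G] [Finite G] {D : Set G} {d₁ d₂ : G} {F : Type} [Field F] [Fintype F]

/-- the centraliser of the inner automorphism -/
abbrev MC (d₁ d₂ : G) : Subgroup (MulAut G) := Subgroup.centralizer ({MulAut.conj (d₁ * d₂)} : Set (MulAut G))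

/-- the inner automorphisms -/
abbrev II (G : Type*) [Group G] : Subgroup (MulAut G) := (MulAut.conj : G →* MulAut G).range

theorem card_eq_mul_relIndex {A : Type*} [Group A] (I L : Subgroup A) :
    Nat.card L = Nat.card (I ⊓ L : Subgroup A) * I.relIndex L := by
  have h1 := Subgroup.relIndex_mul_relIndex ⊥ (I ⊓ L) L bot_le inf_le_right
  rw [Subgroup.relIndex_bot_left, Subgroup.relIndex_bot_left, Subgroup.inf_relIndex_right] at h1
  exact h1.symm

section

variable (P : FiF6.PD D d₁ d₂ F)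
include P

theorem sup_eq_top : MC d₁ d₂ ⊔ II G = ⊤ := by
  rw [eq_top_iff]
  intro α _
  obtain ⟨g, h1, h2⟩ := FiF4.H22.exists_conj_pair' P.h P.hd₁ P.hd₂ (aut_mem P.h α P.hd₁) (aut_perp P.h α P.hd₂)
  have h3 : α = MulAut.conj g * ((MulAut.conj g)⁻¹ * α) := by group
  rw [h3]
  apply mul_mem
  · exact Subgroup.mem_sup_right ⟨g, rfl⟩
  · apply Subgroup.mem_sup_left
    rw [mem_M P, ← map_inv, MulAut.mul_apply, MulAut.conj_apply, map_mul, ← h1, ← h2]
    group

instance : (II G).Normal := by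
  constructor
  rintro _ ⟨g, rfl⟩ α
  refine ⟨α g, ?_⟩
  rw [mul_conj, mul_inv_cancel_right]

theorem relIndex_M : (II G).relIndex (MC d₁ d₂) = 2 := by
  have h1 := Subgroup.relIndex_sup_right (MC d₁ d₂) (II G)
  rw [sup_eq_top P, Subgroup.relIndex_top_right, index_inn P.h] at h1
  exact h1.symm

theorem map_inf {L : Subgroup (MulAut G)} {C : Subgroup G} (h : ∀ c, MulAut.conj c ∈ L ↔ c ∈ C) :
    Nat.card (II G ⊓ L : Subgroup (MulAut G)) = Nat.card C := by
  have h1 : (II G ⊓ L : Subgroup (MulAut G)) = C.map MulAut.conj := by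
    ext α
    constructor
    · rintro ⟨⟨c, rfl⟩, hc⟩
      exact ⟨c, (h c).1 hc, rfl⟩
    · rintro ⟨c, hc, rfl⟩
      exact ⟨⟨c, rfl⟩, (h c).2 hc⟩
  rw [h1]
  exact Subgroup.card_map_of_injective (conj_injective P.h)

theorem card_M : Nat.card (MC d₁ d₂) = 2 ^ 18 * 3 ^ 4 * 5 := by
  have h1 : Nat.card (II G ⊓ MC d₁ d₂ : Subgroup (MulAut G)) =
      Nat.card (Subgroup.centralizer ({d₁ * d₂} : Set G)) := by
    apply map_inf P
    intro c
    rw [mem_M P, MulAut.conj_apply, ← commute_iff_conj, Subgroup.mem_centralizer_singleton_iff]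
    rfl
  rw [card_eq_mul_relIndex, h1, P.card_C, relIndex_M P]
  norm_num

/-- the subgroup of elements acting trivially has order at most `2 ^ 11` -/
theorem card_inf_Q0 : Nat.card (II G ⊓ Q0 P : Subgroup (MulAut G)) = 2 ^ 10 := by
  rw [map_inf P (fun c => conj_mem_Q0 P), P.card_E]

theorem card_Q0_le : Nat.card (Q0 P) ≤ 2 ^ 11 := by
  rw [card_eq_mul_relIndex, card_inf_Q0]
  have h1 := Subgroup.relIndex_dvd_index_of_normal (II G) (Q0 P)
  rw [index_inn P.h] at h1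
  have h2 := Nat.le_of_dvd (by norm_num) h1
  omega

theorem normal_Q0 : ((Q0 P).subgroupOf (MC d₁ d₂)).Normal := by
  constructor
  rintro ⟨q, hq⟩ hq' ⟨α, hα⟩
  exact conj_Q0 P ((mem_M P).1 hα) hq'

theorem map_K_le : (Subgroup.centralizer ({d₁, d₂} : Set G)).map MulAut.conj ≤ MC d₁ d₂ := by
  rintro _ ⟨k, hk, rfl⟩
  rw [mem_M P, MulAut.conj_apply, ← commute_iff_conj]
  exact FiF6.PD.commute_of_K hk

theorem normal_K : (((Subgroup.centralizer ({d₁, d₂} : Set G)).map MulAut.conj).subgroupOf (MC d₁ d₂)).Normal := by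
  constructor
  rintro ⟨q, hq⟩ hq' ⟨α, hα⟩
  obtain ⟨k, hk, rfl⟩ := hq'
  refine ⟨α k, map_K P ((mem_M P).1 hα) hk, ?_⟩
  show MulAut.conj (α k) = α * MulAut.conj k * α⁻¹
  rw [mul_conj, mul_inv_cancel_right]

/-- the quotient of the centraliser -/
theorem quot_M : ∃ (_ : ((Q0 P).subgroupOf (MC d₁ d₂)).Normal),
    Nonempty (↥(MC d₁ d₂) ⧸ (Q0 P).subgroupOf (MC d₁ d₂) ≃* MulAut (Cfsg.PSU 4 F 2)) ∧
    Nat.card (↥(MC d₁ d₂) ⧸ (Q0 P).subgroupOf (MC d₁ d₂)) = 51840 := by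
  haveI h1 := normal_Q0 P
  haveI h2 := normal_K P
  haveI : Finite (Cfsg.PSU 4 F 2) := Nat.finite_of_card_ne_zero (by rw [card_PSU4 P.Δ.hF]; norm_num)
  refine ⟨h1, ?_⟩
  let e1 : ↥(((Subgroup.centralizer ({d₁, d₂} : Set G)).map MulAut.conj).subgroupOf (MC d₁ d₂)) ≃*
      ↥(Subgroup.centralizer ({d₁, d₂} : Set G)) :=
    (Subgroup.subgroupOfEquivOfLe (map_K_le P)).trans
      (Subgroup.equivMapOfInjective _ MulAut.conj (conj_injective P.h)).symm
  let φ : ↥(((Subgroup.centralizer ({d₁, d₂} : Set G)).map MulAut.conj).subgroupOf (MC d₁ d₂)) →*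
      Cfsg.PSU 4 F 2 := (QuotientGroup.mk' (Subgroup.center (SU 4 F 2))).comp (P.φ.comp e1.toMonoidHom)
  have hφ : Function.Surjective φ := by
    intro x
    obtain ⟨m, rfl⟩ := QuotientGroup.mk'_surjective _ x
    obtain ⟨k, rfl⟩ := P.surj m
    exact ⟨e1.symm k, by simp [φ]⟩
  have hec : ∀ k : ↥(((Subgroup.centralizer ({d₁, d₂} : Set G)).map MulAut.conj).subgroupOf (MC d₁ d₂)),
      ((k : ↥(MC d₁ d₂)) : MulAut G) = MulAut.conj (e1 k : G) := by
    intro k
    have h3 : (Subgroup.subgroupOfEquivOfLe (map_K_le P)) k =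
        Subgroup.equivMapOfInjective _ MulAut.conj (conj_injective P.h) (e1 k) := by
      show _ = (Subgroup.equivMapOfInjective _ MulAut.conj (conj_injective P.h))
        ((Subgroup.equivMapOfInjective _ MulAut.conj (conj_injective P.h)).symm _)
      rw [MulEquiv.apply_symm_apply]
      rfl
    have h4 := congrArg Subtype.val h3
    rw [Subgroup.coe_equivMapOfInjective_apply] at h4
    exact h4
  have hker : ∀ k : ↥(((Subgroup.centralizer ({d₁, d₂} : Set G)).map MulAut.conj).subgroupOf (MC d₁ d₂)),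
      φ k = 1 ↔ (k : ↥(MC d₁ d₂)) ∈ (Q0 P).subgroupOf (MC d₁ d₂) := by
    intro k
    rw [Subgroup.mem_subgroupOf, hec, conj_mem_Q0, P.mem_E]
    have h3 : φ k = QuotientGroup.mk' (Subgroup.center (SU 4 F 2)) (P.φ (e1 k)) := rfl
    rw [h3, QuotientGroup.mk'_apply, QuotientGroup.eq_one_iff]
    constructor
    · intro h
      exact ⟨(e1 k).2, P.center_four h⟩
    · rintro ⟨hk, h⟩
      have : P.φ (e1 k) = 1 := h
      rw [this]; exact one_mem _
  have hcard : Nat.card (MulAut (Cfsg.PSU 4 F 2)) ≤ Nat.card (↥(MC d₁ d₂) ⧸ (Q0 P).subgroupOf (MC d₁ d₂)) := by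
    rw [card_mulAut_PSU4 P.Δ.hF]
    have h3 := ((Q0 P).subgroupOf (MC d₁ d₂)).card_mul_index
    rw [Nat.card_congr (Subgroup.subgroupOfEquivOfLe (Q0_le P)).toEquiv, card_M P] at h3
    have h4 : Nat.card (↥(MC d₁ d₂) ⧸ (Q0 P).subgroupOf (MC d₁ d₂)) = ((Q0 P).subgroupOf (MC d₁ d₂)).index := rfl
    rw [h4]
    have h5 := card_Q0_le P
    by_contra hcon
    push Not at hcon
    have h6 : Nat.card (Q0 P) * ((Q0 P).subgroupOf (MC d₁ d₂)).index ≤ 2 ^ 11 * 51839 :=
      Nat.mul_le_mul h5 (by omega)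
    rw [h3] at h6
    norm_num at h6
  have hfaith : ∀ c : ↥(MC d₁ d₂), (∀ k ∈ ((Subgroup.centralizer ({d₁, d₂} : Set G)).map MulAut.conj).subgroupOf
      (MC d₁ d₂), c * k * c⁻¹ * k⁻¹ ∈ (Q0 P).subgroupOf (MC d₁ d₂)) → c ∈ (Q0 P).subgroupOf (MC d₁ d₂) := by
    rintro ⟨α, hα⟩ h
    rw [Subgroup.mem_subgroupOf]
    apply mem_Q0_of_comm P ((mem_M P).1 hα)
    intro k hk
    rw [← conj_mem_Q0 P]
    have h3 := h ⟨MulAut.conj k, map_K_le P ⟨k, hk, rfl⟩⟩ ⟨k, hk, rfl⟩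
    have h4 : MulAut.conj (α k * k⁻¹) = α * MulAut.conj k * α⁻¹ * (MulAut.conj k)⁻¹ := by
      rw [mul_conj, mul_inv_cancel_right, map_mul, map_inv]
    rw [h4]
    exact h3
  obtain ⟨h3, h4⟩ := equiv_mulAut_le _ _ φ hφ hker hcard hfaith
  exact ⟨h3, by rw [h4, card_mulAut_PSU4 P.Δ.hF]⟩

theorem card_Q0 : Nat.card (Q0 P) = 2 ^ 11 := by
  obtain ⟨-, -, h1⟩ := quot_M P
  have h3 := ((Q0 P).subgroupOf (MC d₁ d₂)).card_mul_index
  rw [Nat.card_congr (Subgroup.subgroupOfEquivOfLe (Q0_le P)).toEquiv, card_M P] at h3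
  have h4 : Nat.card (↥(MC d₁ d₂) ⧸ (Q0 P).subgroupOf (MC d₁ d₂)) = ((Q0 P).subgroupOf (MC d₁ d₂)).index := rfl
  rw [← h4, h1] at h3
  omega

theorem exists_q0 : ∃ q ∈ Q0 P, q ∉ II G := by
  by_contra hcon
  push Not at hcon
  have h1 : (II G ⊓ Q0 P : Subgroup (MulAut G)) = Q0 P := inf_eq_right.2 hcon
  have h2 := card_inf_Q0 P
  rw [h1, card_Q0] at h2
  norm_num at h2

/-- outer elements of `Q0` interchange the two members -/
theorem swap_of_outer {q : MulAut G} (hq : q ∈ Q0 P) (hq' : q ∉ II G) : q d₁ = d₂ ∧ q d₂ = d₁ := by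
  rcases cases_M P hq.1 with h1 | h1
  · exfalso
    obtain ⟨σ, x, a, b, S⟩ := exists_sc' P.h P.hd₁ P.hd₂
    by_cases hσ : σ ∈ II G
    · obtain ⟨g, hg⟩ := hσ
      refine lemX P S (k := g) ?_ ?_
      · rw [mem_cent_pair, commute_iff_conj, commute_iff_conj, ← MulAut.conj_apply, ← MulAut.conj_apply, hg]
        exact ⟨S.f1, S.f2⟩
      · intro y _
        rw [← MulAut.conj_apply, hg]
        exact fun z _ => Iff.rfl
    · obtain ⟨g, hg⟩ := exists_inn P.h hq' hσ
      have hgK : g ∈ Subgroup.centralizer ({d₁, d₂} : Set G) := by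
        rw [mem_cent_pair, commute_iff_conj, commute_iff_conj]
        have h2 := S.f1
        have h3 := S.f2
        rw [hg, MulAut.mul_apply, MulAut.conj_apply] at h2 h3
        constructor
        · apply q.injective
          rw [h2, h1.1]
        · apply q.injective
          rw [h3, h1.2]
      refine lemX P S hgK ?_
      intro y hy
      have h4 := hq.2 (g * y * g⁻¹) (P.conj_D12 (FiF6.PD.commute_of_K hgK) hy)
      rw [hg, MulAut.mul_apply, MulAut.conj_apply]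
      exact h4
  · exact h1

end

end Cfsg.Agent.A22
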