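import Cfsg.Agent.A22.Card

/-!
The action of `Q0` on the classes (owner: helper50).
-/

set_option autoImplicit false
set_option linter.unusedSectionVars false

namespace Cfsg.Agent.A22

open Matrix Module Cfsg.Agent.Uni Cfsg.Agent.ThreeTransp Cfsg.Agent.Fi22 Cfsg.Agent.FiF4 Cfsg.Agent.FiF6

variable {G : Type*} [Group G] [Finite G] {D : Set G} {d₁ d₂ : G} {F : Type} [Field F] [Fintype F]

section

variable (P : FiF6.PD D d₁ d₂ F)
include P

/-- transitivity on the classes -/
theorem exists_move {u w : Fin 4 → F} (hu0 : u ≠ 0) (hu : hermForm 4 F 2 u u = 0) (hw0 : w ≠ 0)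
    (hw : hermForm 4 F 2 w w = 0) : ∃ k ∈ Subgroup.centralizer ({d₁, d₂} : Set G), ∃ s : F, s ≠ 0 ∧
      ∀ α : F, k * P.q α u * k⁻¹ = P.q (s * α) w := by
  have hx := P.q_mem (α := 0) hu0 hu
  have hy := P.q_mem (α := 0) hw0 hw
  obtain ⟨g, g1, g2, g3⟩ := FiF4.H22.exists_conj_triple P.h P.hd₁ P.hd₂ hx.1 hx.2 P.hd₁ P.hd₂ hy.1 hy.2
  have hg : g ∈ Subgroup.centralizer ({d₁, d₂} : Set G) := by
    rw [mem_cent_pair, commute_iff_conj, commute_iff_conj]
    exact ⟨g1, g2⟩
  obtain ⟨m, γ, -, -, -, -, -, h1⟩ := P.lift' ⟨g, hg⟩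
  have h2 := h1 0 u hu0 hu
  simp only at h2
  rw [g3, zero_add] at h2
  obtain ⟨c, hc0, e1, e2⟩ := (P.q_eq_iff hw0 hw (act_ne_zero hu0) (by rw [act_form]; exact hu)).1 h2
  refine ⟨g, hg, c⁻¹, inv_ne_zero hc0, fun α => ?_⟩
  have h3 := h1 α u hu0 hu
  simp only at h3
  rw [h3, e2, P.smul_q hc0 hw0 hw, e1, mul_zero, add_zero]

theorem exists_perm {q : MulAut G} (hq : q ∈ Q0 P) {u : Fin 4 → F} (hu0 : u ≠ 0) (hu : hermForm 4 F 2 u u = 0) :
    ∃ f : F → F, ∀ α, q (P.q α u) = P.q (f α) u := by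
  have h : ∀ α, ∃ β, q (P.q α u) = P.q β u := fun α =>
    P.class_form hu0 hu (map_D12 P hq.1 (P.q_mem hu0 hu)) (hq.2 _ (P.q_mem hu0 hu))
  choose f hf using h
  exact ⟨f, hf⟩

theorem sq_mem {q : MulAut G} (hq : q ∈ Q0 P) : ∃ e ∈ P.E, q * q = MulAut.conj e := by
  have h1 : q * q ∈ II G := by
    have := Subgroup.mul_mem_iff_of_index_two (index_inn P.h) (a := q) (b := q)
    exact this.2 Iff.rfl
  obtain ⟨e, he⟩ := h1
  refine ⟨e, ?_, he.symm⟩
  rw [← conj_mem_Q0 P, he]
  exact (Q0 P).mul_mem hq hq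

omit P in
/-- the elementary computation in the field with four elements -/
theorem field_lemma (hF : Fintype.card F = 2 ^ 2) {f : F → F} {c g0 δ : F} (hc0 : c ≠ 0) (hc1 : c ≠ 1)
    (h1 : ∀ α, f (c * α) = c * f α + g0) (h2 : ∀ α, f (f α) = α + δ) : ∀ α, f α = α + f 0 := by
  have htwo : (2 : F) = 0 := two_eq_zero' hF
  have hc3 : c ^ 3 = 1 := pow_three_eq_one hF hc0
  have hcc : c ^ 2 + c + 1 = 0 := by
    have h3 : (c - 1) * (c ^ 2 + c + 1) = 0 := by linear_combination hc3
    exact (mul_eq_zero.1 h3).resolve_left (sub_ne_zero.2 hc1)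
  have h0 := h1 0
  rw [mul_zero] at h0
  have hlin : ∀ α, f α = (f 1 + f 0) * α + f 0 := by
    intro α
    by_cases ha : α = 0
    · rw [ha, mul_zero, zero_add]
    · have ha3 : α ^ 3 = 1 := pow_three_eq_one hF ha
      have h3 : (α - 1) * ((α - c) * (α - c ^ 2)) = 0 := by
        linear_combination ha3 - (α - 1) * α * hcc + (α - 1) * (hc3 + hcc - hcc) + (α - 1) * 0 * htwo
      rcases mul_eq_zero.1 h3 with h4 | h4
      · have : α = 1 := sub_eq_zero.1 h4
        rw [this]
        linear_combination (-1 : F) * (f 0) * htwo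
      · rcases mul_eq_zero.1 h4 with h5 | h5
        · have h6 : α = c := sub_eq_zero.1 h5
          have h7 := h1 1
          rw [mul_one] at h7
          rw [h6, h7]
          linear_combination (-1 : F) * h0 - c * f 0 * htwo
        · have h6 : α = c ^ 2 := sub_eq_zero.1 h5
          have h7 := h1 1
          rw [mul_one] at h7
          have h8 := h1 c
          rw [← pow_two, h7] at h8
          rw [h6, h8]
          linear_combination (-1 : F) * (1 + c) * h0 - c ^ 2 * f 0 * htwo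
  have hl2 : f 1 + f 0 = 1 := by
    have h3 := h2 0
    have h4 := h2 1
    rw [hlin (f 0)] at h3
    rw [hlin (f 1)] at h4
    set l := f 1 + f 0 with hl
    have h5 : l * l = 1 := by linear_combination h4 - h3 + l * (f 0) * htwo
    have h6 : (l - 1) * (l - 1) = 0 := by linear_combination h5 - (l - 1) * htwo
    have h7 := mul_self_eq_zero.1 h6
    exact sub_eq_zero.1 h7
  intro α
  rw [hlin α, hl2, one_mul]

/-- **elements of `Q0` act as translations on the classes** -/
theorem translation {q : MulAut G} (hq : q ∈ Q0 P) {w : Fin 4 → F} (hw0 : w ≠ 0) (hw : hermForm 4 F 2 w w = 0) :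
    ∃ β : F, ∀ α : F, q (P.q α w) = P.q (α + β) w := by
  obtain ⟨u, τ, c, hu0, hu, hτ, hc0, hc1, h1⟩ := P.exists_tau
  obtain ⟨f, hf⟩ := exists_perm P hq hu0 hu
  obtain ⟨e, he, hqe⟩ := sq_mem P hq
  obtain ⟨-, γ, -, -, -, -, -, h2⟩ := P.lift_E (comm_Q0 P hq hτ)
  obtain ⟨-, δ, -, -, -, -, -, h3⟩ := P.lift_E he
  have hfl : ∀ α, f α = α + f 0 := by
    refine field_lemma P.Δ.hF (g0 := γ u) (δ := δ u) hc0 hc1 ?_ ?_
    · intro α
      apply P.q_inj hu0 hu
      rw [← hf, ← h1 α, map_mul, map_mul, map_inv, hf]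
      have h4 := h2 (c * f α) u hu0 hu
      rw [← h4, ← h1]
      group
    · intro α
      apply P.q_inj hu0 hu
      rw [← hf, ← hf, ← h3 α u hu0 hu, ← MulAut.conj_apply, ← hqe]
      rfl
  obtain ⟨k, hk, s, hs0, h4⟩ := exists_move P hu0 hu hw0 hw
  obtain ⟨-, ε, -, -, -, -, -, h5⟩ := P.lift_E (comm_Q0 P hq hk)
  refine ⟨s * f 0 + ε w, fun α => ?_⟩
  have h6 : P.q α w = k * P.q (s⁻¹ * α) u * k⁻¹ := by
    rw [h4, ← mul_assoc, mul_inv_cancel₀ hs0, one_mul]
  have h7 := h5 (s * (s⁻¹ * α + f 0)) w hw0 hw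
  have h8 : α + (s * f 0 + ε w) = s * (s⁻¹ * α + f 0) + ε w := by
    have : s * s⁻¹ = 1 := mul_inv_cancel₀ hs0
    linear_combination (-α) * this
  rw [h8, ← h7, ← h4, h6, map_mul, map_mul, map_inv, hf, hfl]
  group

theorem j_mul : (d₁ * d₂) * d₁ = d₂ := by
  rw [P.comm12.eq, mul_assoc, P.sq_one P.hd₁, mul_one]

theorem j_mul' : (d₁ * d₂) * d₂ = d₁ := by
  rw [mul_assoc, P.sq_one P.hD1, mul_one]

/-- the action on `E` -/
theorem act_E {q : MulAut G} (hq : q ∈ Q0 P) {t : G} (ht : t ∈ P.E) : q t = t ∨ q t = d₁ * d₂ * t := by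
  have hcj : ∀ x ∈ P.E, x * (d₁ * d₂) = d₁ * d₂ * x := fun x hx => (P.j_comm_E hx).eq
  have htc := ht
  rw [← P.closure_gens] at htc
  induction htc using Subgroup.closure_induction with
  | mem t h =>
    rcases h with ⟨u, a, b, hu0, hu, rfl⟩ | rfl | rfl
    · obtain ⟨β, hβ⟩ := translation P hq hu0 hu
      rw [map_mul, hβ, hβ]
      exact P.pair_cases hu0 hu a b β
    · rcases cases_M P hq.1 with h1 | h1
      · left; exact h1.1
      · right; rw [h1.1, j_mul P]
    · rcases cases_M P hq.1 with h1 | h1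
      · left; exact h1.2
      · right; rw [h1.2, j_mul' P]
  | one => left; exact map_one q
  | mul x y hx hy h1 h2 =>
    rw [P.closure_gens] at hx hy
    rw [map_mul]
    rcases h1 hx with h3 | h3 <;> rcases h2 hy with h4 | h4 <;> rw [h3, h4]
    · left; rfl
    · right
      rw [← mul_assoc, hcj x hx, mul_assoc]
    · right
      rw [mul_assoc]
    · left
      calc d₁ * d₂ * x * (d₁ * d₂ * y) = d₁ * d₂ * (x * (d₁ * d₂)) * y := by group
        _ = (d₁ * d₂) * (d₁ * d₂) * (x * y) := by rw [hcj x hx]; group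
        _ = _ := by rw [P.jj, one_mul]
  | inv x hx h1 =>
    rw [P.closure_gens] at hx
    rw [map_inv]
    rcases h1 hx with h3 | h3 <;> rw [h3]
    · left; rfl
    · right
      have h4 : (d₁ * d₂)⁻¹ = d₁ * d₂ := inv_eq_of_mul_eq_one_left P.jj
      rw [_root_.mul_inv_rev, h4, hcj _ (inv_mem hx)]

/-- a product of two members of `D12` is not the product of the two members -/
theorem ne_j {x y : G} (hx : x ∈ perp D d₁ ∩ perp D d₂) (hy : y ∈ D) (hxy : Commute x y) :
    y ≠ d₁ * d₂ * x := by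
  intro h
  have hxx := P.sq_one hx.1.1
  have h1 : y * x = d₁ * d₂ := by rw [h, mul_assoc, hxx, mul_one]
  have hne : y ≠ x := by
    rintro rfl
    rw [hxx] at h1
    exact P.j_ne h1.symm
  have h2 : IsFact D 2 (d₁ * d₂) [y, x] := by
    refine ⟨by simpa using hne, rfl, ?_, ?_, by simpa using h1⟩
    · intro a ha
      simp only [List.mem_cons, List.not_mem_nil, or_false] at ha
      rcases ha with rfl | rfl
      · exact hy
      · exact hx.1.1
    · intro a ha b hb
      simp only [List.mem_cons, List.not_mem_nil, or_false] at ha hb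
      rcases ha with rfl | rfl <;> rcases hb with rfl | rfl
      · exact Commute.refl _
      · exact hxy.symm
      · exact hxy
      · exact Commute.refl _
  have h3 : IsFact D 2 (d₁ * d₂) [d₁, d₂] := by
    refine ⟨by simpa using P.ne12, rfl, ?_, ?_, by simp⟩
    · intro a ha
      simp only [List.mem_cons, List.not_mem_nil, or_false] at ha
      rcases ha with rfl | rfl
      · exact P.hd₁
      · exact P.hD1
    · intro a ha b hb
      simp only [List.mem_cons, List.not_mem_nil, or_false] at ha hb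
      rcases ha with rfl | rfl <;> rcases hb with rfl | rfl
      · exact Commute.refl _
      · exact P.comm12
      · exact P.comm12.symm
      · exact Commute.refl _
  have h4 := P.h.fact_two h2 h3 x (by simp)
  simp only [List.mem_cons, List.not_mem_nil, or_false] at h4
  rcases h4 with h4 | h4
  · exact hx.1.2.1 h4
  · exact hx.2.2.1 h4

end

end Cfsg.Agent.A22
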