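import Cfsg.Agent.A22.Trans
import Cfsg.Agent.H90.Large
import Cfsg.Agent.S5422

/-!
`Q0` is a large extraspecial group (owner: helper50).
-/

set_option autoImplicit false
set_option linter.unusedSectionVars false

namespace Cfsg.Agent.A22

open Matrix Module Cfsg.Agent.Uni Cfsg.Agent.ThreeTransp Cfsg.Agent.Fi22 Cfsg.Agent.FiF4 Cfsg.Agent.FiF6

variable {G : Type*} [Group G] [Finite G] {D : Set G} {d₁ d₂ : G} {F : Type} [Field F] [Fintype F]

/-- the inner automorphism of the product -/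
abbrev JJ (d₁ d₂ : G) : MulAut G := MulAut.conj (d₁ * d₂)

section

variable (P : FiF6.PD D d₁ d₂ F)
include P

theorem JJ_sq : JJ d₁ d₂ * JJ d₁ d₂ = 1 := by
  rw [← map_mul, P.jj, map_one]

theorem JJ_ne : JJ d₁ d₂ ≠ 1 := by
  intro h
  apply P.j_ne
  apply conj_injective P.h
  rw [map_one]
  exact h

theorem j_mem_E : d₁ * d₂ ∈ P.E := mul_mem P.d1_mem P.d2_mem

theorem JJ_mem : JJ d₁ d₂ ∈ Q0 P := (conj_mem_Q0 P).2 (j_mem_E P)

theorem JJ_comm {q : MulAut G} (hq : q (d₁ * d₂) = d₁ * d₂) : q * JJ d₁ d₂ = JJ d₁ d₂ * q := by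
  rw [mul_conj, hq]

/-- squares -/
theorem sq_Q0 {q : MulAut G} (hq : q ∈ Q0 P) : q * q = 1 ∨ q * q = JJ d₁ d₂ := by
  by_cases hqi : q ∈ II G
  · obtain ⟨t, rfl⟩ := hqi
    have ht := (conj_mem_Q0 P).1 hq
    rcases P.sq_E' ht with h | h
    · left; rw [← map_mul, h, map_one]
    · right; rw [← map_mul, h]
  · obtain ⟨e, he, hqe⟩ := sq_mem P hq
    have hsw := swap_of_outer P hq hqi
    have heK := P.E_le he
    -- `e` commutes with the members
    have h1 : ∀ x ∈ perp D d₁ ∩ perp D d₂, Commute e x := by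
      intro x hx
      have hxK := P.q_mem_K hx
      have h2 := comm_Q0 P hq hxK
      obtain ⟨e1, he1⟩ : ∃ e1, e1 = q x * x⁻¹ := ⟨_, rfl⟩
      rw [← he1] at h2
      have h3 : q x = e1 * x := by rw [he1]; group
      have h4 : e * x * e⁻¹ = q e1 * e1 * x := by
        calc e * x * e⁻¹ = (q * q) x := by rw [hqe, MulAut.conj_apply]
          _ = q (q x) := rfl
          _ = q (e1 * x) := congrArg q h3
          _ = q e1 * q x := map_mul q _ _
          _ = q e1 * (e1 * x) := congrArg (fun y => q e1 * y) h3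
          _ = q e1 * e1 * x := (mul_assoc _ _ _).symm
      have hx' := P.conj_D12 (FiF6.PD.commute_of_K heK) hx
      have h5 : e * x * e⁻¹ = x ∨ e * x * e⁻¹ = d₁ * d₂ * x := by
        rw [h4]
        rcases act_E P hq h2 with h6 | h6 <;> rw [h6]
        · rcases P.sq_E' h2 with h7 | h7 <;> rw [h7]
          · left; rw [one_mul]
          · right; rfl
        · rw [mul_assoc (d₁ * d₂) e1 e1]
          rcases P.sq_E' h2 with h7 | h7 <;> rw [h7]
          · right; rw [mul_one]
          · left; rw [P.jj, one_mul]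
      rcases h5 with h6 | h6
      · rw [commute_iff_conj]; exact h6
      · exfalso
        have hcx : Commute x (e * x * e⁻¹) := by
          rw [h6]
          exact (hx.1.2.2.symm.mul_right hx.2.2.2.symm).mul_right (Commute.refl x)
        exact ne_j P hx hx'.1.1 hcx h6
    have h2 := P.mem_V_of_commute heK h1
    -- `e` is fixed by `q`
    have h3 : q e = e := by
      apply conj_injective P.h
      have h4 : MulAut.conj (q e) = q * MulAut.conj e * q⁻¹ := by rw [mul_conj, mul_inv_cancel_right]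
      rw [h4, ← hqe]; group
    rw [hqe]
    rcases P.mem_V.1 h2 with h4 | h4 | h4 | h4
    · left; rw [h4, map_one]
    · exfalso
      rw [h4, hsw.1] at h3
      exact P.ne12 h3.symm
    · exfalso
      rw [h4, hsw.2] at h3
      exact P.ne12 h3
    · right; rw [h4]

theorem comm_conj {q : MulAut G} (hq : q ∈ Q0 P) {t : G} (ht : t ∈ P.E) :
    q * MulAut.conj t = MulAut.conj t * q ∨ q * MulAut.conj t = JJ d₁ d₂ * (MulAut.conj t * q) := by
  rw [mul_conj]
  rcases act_E P hq ht with h | h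
  · left; rw [h]
  · right; rw [h, map_mul, mul_assoc]

theorem comm_conj' {q : MulAut G} (hq : q ∈ Q0 P) {t : G} (ht : t ∈ P.E) :
    MulAut.conj t * q = q * MulAut.conj t ∨ MulAut.conj t * q = JJ d₁ d₂ * (q * MulAut.conj t) := by
  rcases comm_conj P hq ht with h | h
  · left; rw [h]
  · right; rw [h, ← mul_assoc, JJ_sq P, one_mul]

theorem xs : H90.XS (Q0 P) (JJ d₁ d₂) where
  mem := JJ_mem P
  ne_one := JJ_ne P
  sq := JJ_sq P
  central := fun q hq => JJ_comm P hq.1
  comm := by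
    intro x hx y hy
    by_cases hyi : y ∈ II G
    · obtain ⟨t, rfl⟩ := hyi
      exact comm_conj P hx ((conj_mem_Q0 P).1 hy)
    · by_cases hxi : x ∈ II G
      · obtain ⟨t, rfl⟩ := hxi
        exact comm_conj' P hy ((conj_mem_Q0 P).1 hx)
      · obtain ⟨g, hg⟩ := exists_inn P.h hxi hyi
        have hgE : g ∈ P.E := by
          rw [← conj_mem_Q0 P]
          have : MulAut.conj g = x⁻¹ * y := by rw [hg]; group
          rw [this]
          exact (Q0 P).mul_mem ((Q0 P).inv_mem hx) hy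
        rw [hg]
        rcases comm_conj P hx hgE with h | h
        · left
          rw [mul_assoc x (MulAut.conj g) x, ← h]
        · right
          rw [mul_assoc x (MulAut.conj g) x]
          have h2 : MulAut.conj g * x = JJ d₁ d₂ * (x * MulAut.conj g) := by
            rw [h, ← mul_assoc, JJ_sq P, one_mul]
          rw [h2, ← mul_assoc x (JJ d₁ d₂), JJ_comm P hx.1, mul_assoc (JJ d₁ d₂) x, ← mul_assoc (JJ d₁ d₂) (JJ d₁ d₂),
            JJ_sq P, one_mul]
  nondeg := by
    intro x hx hxc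
    obtain ⟨q, hq, hqi⟩ := exists_q0 P
    by_cases hxi : x ∈ II G
    · obtain ⟨t, rfl⟩ := hxi
      have ht := (conj_mem_Q0 P).1 hx
      have h1 : t ∈ Subgroup.closure ({d₁, d₂} : Set G) := by
        apply P.mem_V_of_comm_E ht
        intro y hy
        apply conj_injective P.h
        rw [map_mul, map_mul]
        exact hxc _ ((conj_mem_Q0 P).2 hy)
      have h2 : q t = t := by
        apply conj_injective P.h
        have h3 := hxc q hq
        rw [mul_conj] at h3
        exact (mul_right_cancel h3).symm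
      have hsw := swap_of_outer P hq hqi
      rcases P.mem_V.1 h1 with h4 | h4 | h4 | h4
      · left; rw [h4, map_one]
      · exfalso
        rw [h4, hsw.1] at h2
        exact P.ne12 h2.symm
      · exfalso
        rw [h4, hsw.2] at h2
        exact P.ne12 h2
      · right; rw [h4]
    · exfalso
      have hsw := swap_of_outer P hx hxi
      have h3 := hxc (MulAut.conj d₁) ((conj_mem_Q0 P).2 P.d1_mem)
      rw [mul_conj] at h3
      have h4 := conj_injective P.h (mul_right_cancel h3)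
      rw [hsw.1] at h4
      exact P.ne12 h4.symm

theorem isExtraspecial : Cfsg.IsExtraspecial 2 ↥(Q0 P) := by
  obtain ⟨q, hq, hqi⟩ := exists_q0 P
  refine (xs P).isExtraspecial hq ((conj_mem_Q0 P).2 P.d1_mem) ?_
  intro h
  rw [mul_conj] at h
  have h4 := conj_injective P.h (mul_right_cancel h)
  rw [(swap_of_outer P hq hqi).1] at h4
  exact P.ne12 h4.symm

theorem pl : H90.PL (Q0 P) (JJ d₁ d₂) where
  toXS := xs P
  cent := by
    intro g hg
    have hgj : g (d₁ * d₂) = d₁ * d₂ := by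
      rw [← mem_M P, Subgroup.mem_centralizer_singleton_iff]
      exact hg _ (JJ_mem P)
    have hE : ∀ t ∈ P.E, g t = t := by
      intro t ht
      have h1 := hg _ ((conj_mem_Q0 P).2 ht)
      rw [mul_conj] at h1
      exact conj_injective P.h (mul_right_cancel h1)
    have hgQ : g ∈ Q0 P := by
      apply mem_Q0_of_comm P hgj
      intro k hk
      apply P.cent_E
      intro y hy
      have h1 : k⁻¹ * y * k⁻¹⁻¹ ∈ P.E := P.conj_E (FiF6.PD.commute_of_K (inv_mem hk)) hy
      have h2 := hE _ h1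
      rw [map_mul, map_mul, map_inv, map_inv, map_inv, hE y hy, inv_inv, inv_inv] at h2
      have h3 : (g k)⁻¹ * y * g k = k⁻¹ * y * k := h2
      calc g k * k⁻¹ * y = g k * (k⁻¹ * y * k) * k⁻¹ := by group
        _ = g k * ((g k)⁻¹ * y * g k) * k⁻¹ := by rw [h3]
        _ = y * (g k * k⁻¹) := by group
    exact (xs P).nondeg g hgQ hg
  norm := by
    intro g hg q hq
    apply conj_Q0 P _ hq
    rw [← mem_M P, Subgroup.mem_centralizer_singleton_iff]
    exact hg

theorem center_map : (Subgroup.center ↥(Q0 P)).map (Q0 P).subtype = Subgroup.zpowers (JJ d₁ d₂) := (pl P).center_eq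

theorem isLarge : Cfsg.IsLargeExtraspecial (Q0 P) := by
  obtain ⟨u, -, -, hu0, hu, -⟩ := P.exists_tau
  have hx := P.q_mem (α := 0) hu0 hu
  have hy := P.q_mem (α := 1) hu0 hu
  have hxy : P.q 1 u ∈ perp D (P.q 0 u) := by
    refine ⟨hy.1.1, ?_, ?_⟩
    · intro h
      exact one_ne_zero (P.q_inj hu0 hu h)
    · exact (P.commute_q hu0 hu hu0 hu).2 hu
  obtain ⟨g, g1, g2⟩ := FiF4.H22.exists_conj_pair' P.h P.hd₁ P.hd₂ hx.1.1 hxy
  have hg : g * (d₁ * d₂) * g⁻¹ = P.q 0 u * P.q 1 u := by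
    rw [← g1, ← g2]; group
  have hgE : P.q 0 u * P.q 1 u ∈ P.E := P.gens_sub (Or.inl ⟨u, 0, 1, hu0, hu, rfl⟩)
  have hne : P.q 0 u * P.q 1 u ≠ d₁ * d₂ := by
    intro h
    apply ne_j P hx hxy.1 hxy.2.2
    rw [← h, hxy.2.2.eq, mul_assoc, P.sq_one hx.1.1, mul_one]
  have hcj : MulAut.conj g * JJ d₁ d₂ * (MulAut.conj g)⁻¹ = MulAut.conj (P.q 0 u * P.q 1 u) := by
    rw [← hg, map_mul, map_mul, map_inv]
  refine (Cfsg.Agent.S5422.result (Q0 P) (isExtraspecial P) (pl P).centralizer_eq (pl P).le_normalizer 5 (by norm_num)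
    (by rw [card_Q0]) (MulAut.conj g) ?_ ?_).2.2
  · rw [center_map P]
    intro h
    have h1 := (Subgroup.mem_normalizer_iff.1 h (JJ d₁ d₂)).1 (Subgroup.mem_zpowers _)
    rw [hcj] at h1
    obtain ⟨n, hn⟩ := h1
    have h2 : MulAut.conj (P.q 0 u * P.q 1 u) = 1 ∨ MulAut.conj (P.q 0 u * P.q 1 u) = JJ d₁ d₂ := by
      rw [← hn]
      show (JJ d₁ d₂) ^ n = 1 ∨ (JJ d₁ d₂) ^ n = JJ d₁ d₂
      rcases Int.even_or_odd' n with ⟨m, rfl | rfl⟩
      · left; rw [_root_.zpow_mul, zpow_two, JJ_sq P, _root_.one_zpow]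
      · right; rw [_root_.zpow_add, _root_.zpow_mul, zpow_two, JJ_sq P, _root_.one_zpow, one_mul, zpow_one]
    rcases h2 with h2 | h2
    · rw [← hcj] at h2
      apply JJ_ne P
      have : JJ d₁ d₂ = (MulAut.conj g)⁻¹ * (MulAut.conj g * JJ d₁ d₂ * (MulAut.conj g)⁻¹) * MulAut.conj g := by group
      rw [this, h2]; group
    · exact hne (conj_injective P.h h2)
  · rw [center_map P, MonoidHom.map_zpowers, Subgroup.zpowers_le]
    show MulAut.conj g * JJ d₁ d₂ * (MulAut.conj g)⁻¹ ∈ Q0 P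
    rw [hcj]
    exact (conj_mem_Q0 P).2 hgE

/-- The generalized Fitting subgroup. -/
theorem fstar : Cfsg.generalizedFittingSubgroup ↥(MC d₁ d₂) = (Q0 P).subgroupOf (MC d₁ d₂) := by
  haveI : Fact (Nat.Prime 2) := ⟨Nat.prime_two⟩
  have hR : IsPGroup 2 ↥((Q0 P).subgroupOf (MC d₁ d₂)) := by
    apply IsPGroup.of_card (n := 11)
    rw [Nat.card_congr (Subgroup.subgroupOfEquivOfLe (Q0_le P)).toEquiv, card_Q0 P]
  refine H90.generalizedFitting_eq_of (p := 2) _ (normal_Q0 P) hR ?_ ?_
  · rintro ⟨c, hc⟩ h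
    rw [Subgroup.mem_subgroupOf]
    have h1 := (pl P).cent c (fun q hq => by
      have h2 := Subgroup.mem_centralizer_iff.1 h ⟨q, Q0_le P hq⟩ hq
      exact (congrArg Subtype.val h2).symm)
    rcases h1 with h1 | h1
    · show c ∈ Q0 P
      rw [h1]; exact one_mem _
    · show c ∈ Q0 P
      rw [h1]; exact JJ_mem P
  · intro N hN hN2 hRN
    haveI := hN
    -- inner elements of `N`
    have hinn : ∀ c : G, ∀ hc : MulAut.conj c ∈ MC d₁ d₂, (⟨MulAut.conj c, hc⟩ : ↥(MC d₁ d₂)) ∈ N → c ∈ P.E := by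
      set C := Subgroup.centralizer ({d₁ * d₂} : Set G) with hCdef
      have hCM : ∀ c : ↥C, MulAut.conj (c : G) ∈ MC d₁ d₂ := by
        intro c
        rw [mem_M P, MulAut.conj_apply, ← commute_iff_conj]
        exact Subgroup.mem_centralizer_singleton_iff.1 c.2
      let f : ↥C →* ↥(MC d₁ d₂) :=
        (MulAut.conj.comp C.subtype).codRestrict (MC d₁ d₂) hCM
      have hf : Function.Injective f := by
        intro a b hab
        exact Subtype.ext (conj_injective P.h (congrArg Subtype.val hab))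
      have hN' : (N.comap f).Normal := inferInstance
      have hN2' : IsPGroup 2 ↥(N.comap f) := hN2.comap_of_injective f hf
      have h1 : N.comap f ≤ Cfsg.generalizedFittingSubgroup ↥C :=
        (Solv.le_pCore hN' hN2').trans ((Solv.pCore_le_fitting 2).trans le_sup_right)
      rw [P.fstar] at h1
      intro c hc hcN
      have hcC : c ∈ C := by
        rw [hCdef, Subgroup.mem_centralizer_singleton_iff]
        have h2 := (mem_M P).1 hc
        rw [MulAut.conj_apply, ← commute_iff_conj] at h2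
        exact h2
      exact h1 (show (⟨c, hcC⟩ : ↥C) ∈ N.comap f from hcN)
    rintro ⟨α, hα⟩ hαN
    rw [Subgroup.mem_subgroupOf]
    show α ∈ Q0 P
    by_cases hαi : α ∈ II G
    · obtain ⟨c, rfl⟩ := hαi
      exact (conj_mem_Q0 P).2 (hinn c hα hαN)
    · obtain ⟨q, hq, hqi⟩ := exists_q0 P
      obtain ⟨g, hg⟩ := exists_inn P.h hqi hαi
      have h1 : MulAut.conj g = q⁻¹ * α := by rw [hg]; group
      have h2 : MulAut.conj g ∈ MC d₁ d₂ := by
        rw [h1]; exact mul_mem (inv_mem (Q0_le P hq)) hα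
      have h3 : (⟨MulAut.conj g, h2⟩ : ↥(MC d₁ d₂)) ∈ N := by
        have h4 : (⟨MulAut.conj g, h2⟩ : ↥(MC d₁ d₂)) = (⟨q, Q0_le P hq⟩ : ↥(MC d₁ d₂))⁻¹ * ⟨α, hα⟩ :=
          Subtype.ext h1
        rw [h4]
        exact mul_mem (inv_mem (hRN hq)) hαN
      rw [hg]
      exact (Q0 P).mul_mem hq ((conj_mem_Q0 P).2 (hinn g h2 h3))

end

end Cfsg.Agent.A22
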